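/-
Torsors under a finite connected group scheme over a field K: two R-points of such a torsor
become equal after composing with any endomorphism of R killing the images of the nilpotents of
the group's algebra; consequently residue fields of the torsor are purely inseparable over K.
-/
import Groth.Prelude.Def_NonAbH2
import Mathlib.AlgebraicGeometry.Morphisms.Finite
import Mathlib.AlgebraicGeometry.Morphisms.FormallyUnramified
import Mathlib.FieldTheory.Perfect
import Mathlib.FieldTheory.PrimitiveElement
import Mathlib.RingTheory.Unramified.Field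
import Mathlib.FieldTheory.IsAlgClosed.AlgebraicClosure
import Mathlib.Algebra.CharP.Lemmas
import Mathlib.Topology.Separation.Connected

set_option autoImplicit false

universe u

open CategoryTheory MonoidalCategory CartesianMonoidalCategory MonObj GrpObj AlgebraicGeometry
open CategoryTheory.Limits TensorProduct

namespace Groth.Agent.ConnFinTorsor

variable {K : Type u} [Field K]
variable {G X : Over (Spec (CommRingCat.of K))} [GrpObj G]

theorem exists_aug [IsFinite G.hom] [ConnectedSpace G.left] :
    ∃ (A : CommRingCat.{u}) (i : G.left ≅ Spec A) (c : CommRingCat.of K ⟶ A)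
      (e : A ⟶ CommRingCat.of K) (N : ℕ),
      i.inv ≫ G.hom = Spec.map c ∧ η[G].left ≫ i.hom = Spec.map e ∧
      ∀ a : A, (a - c.hom (e.hom a)) ^ N = 0 := by
  haveI : IsAffine G.left := isAffine_of_isAffineHom G.hom
  let A : CommRingCat.{u} := Γ(G.left, ⊤)
  let i : G.left ≅ Spec A := G.left.isoSpec
  obtain ⟨c, hc⟩ := Spec.map_surjective (i.inv ≫ G.hom)
  obtain ⟨e, he⟩ := Spec.map_surjective
    (show Spec (CommRingCat.of K) ⟶ Spec A from η[G].left ≫ i.hom)
  have hfin : c.hom.Finite := by
    rw [← IsFinite.SpecMap_iff, hc]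
    infer_instance
  letI : Algebra K A := c.hom.toAlgebra
  haveI : Module.Finite K A := hfin
  haveI : IsArtinianRing A := .of_finite K A
  haveI : ConnectedSpace (PrimeSpectrum A) :=
    (inferInstance : ConnectedSpace G.left) |> fun _ =>
      show ConnectedSpace (Spec A) from
        i.hom.homeomorph.surjective.connectedSpace i.hom.homeomorph.continuous
  haveI : Subsingleton (PrimeSpectrum A) := PreconnectedSpace.trivial_of_discrete
  have hce : c ≫ e = 𝟙 _ := by
    apply Spec.map_injective
    rw [Spec.map_comp, hc, he, Spec.map_id]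
    simp only [Category.assoc, Iso.hom_inv_id_assoc]
    exact Over.w η[G]
  obtain ⟨N, hN⟩ := IsArtinianRing.isNilpotent_nilradical (R := A)
  refine ⟨A, i, c, e, N, hc.symm, he.symm, fun a => ?_⟩
  have ha : e.hom (a - c.hom (e.hom a)) = 0 := by
    have h1 : e.hom (c.hom (e.hom a)) = e.hom a :=
      congrArg (fun f => f.hom (e.hom a)) hce
    rw [map_sub, h1, sub_self]
  have hmem : a - c.hom (e.hom a) ∈ nilradical A := by
    rw [nilradical_eq_sInf, Ideal.mem_sInf]
    intro J hJ
    have hk : (RingHom.ker e.hom).IsPrime := RingHom.ker_isPrime _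
    have heq : (⟨J, hJ⟩ : PrimeSpectrum A) = ⟨RingHom.ker e.hom, hk⟩ := Subsingleton.elim _ _
    have hJk : J = RingHom.ker e.hom := congrArg PrimeSpectrum.asIdeal heq
    rw [hJk]
    exact ha
  have h2 := Ideal.pow_mem_pow hmem N
  rw [hN] at h2
  exact h2

/-- Two `R`-points of a pseudo-torsor under `G` become equal along an endomorphism `φ` of `R`
killing all images of the nilpotent elements of the algebra of `G`. -/
theorem comp_eq_of_kills {A : CommRingCat.{u}} {i : G.left ≅ Spec A} {c : CommRingCat.of K ⟶ A}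
    {e : A ⟶ CommRingCat.of K} (hc : i.inv ≫ G.hom = Spec.map c)
    (he : η[G].left ≫ i.hom = Spec.map e)
    (a : AlgGrp.Action G X) (ha : NonAbH1.IsPseudoTorsorSch a)
    {R : CommRingCat.{u}} (φ : R ⟶ R)
    (hφ : ∀ (γ : A ⟶ R) (x : A), φ.hom (γ.hom (x - c.hom (e.hom x))) = 0)
    (x₁ x₂ : Spec R ⟶ X.left) (h : x₁ ≫ X.hom = x₂ ≫ X.hom) :
    Spec.map φ ≫ x₁ = Spec.map φ ≫ x₂ := by
  let T : Over (Spec (CommRingCat.of K)) := Over.mk (x₁ ≫ X.hom)
  let y₁ : T ⟶ X := Over.homMk x₁ rfl
  let y₂ : T ⟶ X := Over.homMk x₂ h.symm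
  have hiso : IsIso (lift a.act (snd G X)) := ha
  let w : T ⟶ G ⊗ X := lift y₂ y₁ ≫ inv (lift a.act (snd G X))
  have hw : w ≫ lift a.act (snd G X) = lift y₂ y₁ := by
    simp only [w, Category.assoc, IsIso.inv_hom_id, Category.comp_id]
  have hw₁ : w ≫ a.act = y₂ := by
    have := congrArg (fun m => m ≫ fst X X) hw
    simpa using this
  have hw₂ : w ≫ snd G X = y₁ := by
    have := congrArg (fun m => m ≫ snd X X) hw
    simpa using this
  let T' : Over (Spec (CommRingCat.of K)) := Over.mk (Spec.map φ ≫ x₁ ≫ X.hom)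
  let j : T' ⟶ T := Over.homMk (Spec.map φ) rfl
  have hj : (j ≫ w) ≫ fst G X = toUnit T' ≫ η[G] := by
    obtain ⟨γ, hγ⟩ := Spec.map_surjective
      (show Spec R ⟶ Spec A from (w ≫ fst G X).left ≫ i.hom)
    obtain ⟨τ, hτ⟩ := Spec.map_surjective (show Spec R ⟶ Spec (CommRingCat.of K) from x₁ ≫ X.hom)
    have hcγ : c ≫ γ = τ := by
      apply Spec.map_injective
      rw [Spec.map_comp, hγ, hτ, ← hc]
      simp only [Category.assoc, Iso.hom_inv_id_assoc]
      exact Over.w (w ≫ fst G X)
    have key : γ ≫ φ = e ≫ τ ≫ φ := by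
      ext x
      have h0 := hφ γ x
      rw [map_sub, map_sub, sub_eq_zero] at h0
      refine h0.trans ?_
      change φ.hom ((c ≫ γ).hom (e.hom x)) = _
      rw [hcγ]
      rfl
    apply Over.OverMorphism.ext
    rw [← cancel_mono i.hom]
    have h1 := congrArg Spec.map key
    rw [Spec.map_comp, Spec.map_comp, Spec.map_comp, hγ, hτ, ← he] at h1
    simpa [j, T', Category.assoc, Over.toUnit_left] using h1
  have hjw : j ≫ w = lift (toUnit T' ≫ η[G]) (j ≫ y₁) := by
    apply CartesianMonoidalCategory.hom_ext
    · rw [lift_fst, hj]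
    · rw [lift_snd, Category.assoc, hw₂]
  have h2 : j ≫ y₂ = j ≫ y₁ := by
    rw [← hw₁, ← Category.assoc, hjw,
      show lift (toUnit T' ≫ η[G]) (j ≫ y₁) = lift (toUnit T') (j ≫ y₁) ≫ (η[G] ▷ X) by
        apply CartesianMonoidalCategory.hom_ext <;> simp,
      Category.assoc, a.one_act]
    simp
  exact (congrArg CommaMorphism.left h2).symm

variable [IsFinite G.hom] [ConnectedSpace G.left]

/-- Points of a torsor in a reduced ring are equal. -/
theorem eq_of_isReduced (a : AlgGrp.Action G X) (ha : NonAbH1.IsPseudoTorsorSch a)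
    {R : CommRingCat.{u}} [_root_.IsReduced R] (x₁ x₂ : Spec R ⟶ X.left)
    (h : x₁ ≫ X.hom = x₂ ≫ X.hom) : x₁ = x₂ := by
  obtain ⟨A, i, c, e, N, hc, he, hN⟩ := exists_aug (G := G)
  have := comp_eq_of_kills hc he a ha (𝟙 R)
    (fun γ x => by
      have : IsNilpotent (γ.hom (x - c.hom (e.hom x))) := ⟨N, by rw [← map_pow, hN, map_zero]⟩
      simpa using this.eq_zero) x₁ x₂ h
  simpa using this

/-- A point of a torsor with finite separable residue field extension is rational. -/
theorem exists_section_of_separable (a : AlgGrp.Action G X) (ha : NonAbH1.IsPseudoTorsorSch a)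
    (L : Type u) [Field L] [Algebra K L] [Module.Finite K L] [Algebra.IsSeparable K L]
    (x : Spec (CommRingCat.of L) ⟶ X.left)
    (hx : x ≫ X.hom = Spec.map (CommRingCat.ofHom (algebraMap K L))) :
    NonAbH1.HasSectionOver X (𝟙 (Spec (CommRingCat.of K))) := by
  obtain ⟨⟨z, ψ⟩, rfl⟩ := (Scheme.SpecToEquivOfField L X.left).symm.surjective x
  change (Spec.map ψ ≫ X.left.fromSpecResidueField z) ≫ X.hom = _ at hx
  obtain ⟨c, hc⟩ := Spec.map_surjective (X.left.fromSpecResidueField z ≫ X.hom)
  letI : Algebra K (X.left.residueField z) := c.hom.toAlgebra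
  have hψ : c ≫ ψ = CommRingCat.ofHom (algebraMap K L) := by
    apply Spec.map_injective
    rw [Spec.map_comp, hc, ← hx]
    simp
  let ψ' : X.left.residueField z →ₐ[K] L :=
    { ψ.hom with commutes' := fun r => congrArg (fun f => f.hom r) hψ }
  haveI : Module.Finite K (X.left.residueField z) :=
    Module.Finite.of_injective ψ'.toLinearMap ψ'.toRingHom.injective
  haveI : Algebra.IsSeparable K (X.left.residueField z) := Algebra.IsSeparable.of_algHom K L ψ'
  let M := AlgebraicClosure (X.left.residueField z)
  have hsub : Subsingleton (X.left.residueField z →ₐ[K] M) := by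
    refine ⟨fun f g => ?_⟩
    have key := eq_of_isReduced a ha (R := CommRingCat.of M)
      (Spec.map (CommRingCat.ofHom f.toRingHom) ≫ X.left.fromSpecResidueField z)
      (Spec.map (CommRingCat.ofHom g.toRingHom) ≫ X.left.fromSpecResidueField z) (by
        rw [Category.assoc, Category.assoc, ← hc, ← Spec.map_comp, ← Spec.map_comp]
        congr 1
        ext r
        exact (f.commutes r).trans (g.commutes r).symm)
    rw [cancel_mono] at key
    have h1 := Spec.map_injective key
    ext r
    exact congrArg (fun q => q.hom r) h1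
  have hcard := AlgHom.card K (X.left.residueField z) M
  have hone : Fintype.card (X.left.residueField z →ₐ[K] M) = 1 :=
    le_antisymm (Fintype.card_le_one_iff_subsingleton.mpr hsub)
      (Fintype.card_pos_iff.mpr ⟨IsScalarTower.toAlgHom K _ M⟩)
  rw [hone] at hcard
  have hb : Function.Bijective (Algebra.ofId K (X.left.residueField z)) := by
    refine ⟨(algebraMap K (X.left.residueField z)).injective, ?_⟩
    have := Subalgebra.bot_eq_top_of_finrank_eq_one hcard.symm
    intro r
    have hr : r ∈ (⊥ : Subalgebra K (X.left.residueField z)) := this ▸ Algebra.mem_top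
    exact Algebra.mem_bot.mp hr
  let σ := AlgEquiv.ofBijective (Algebra.ofId K (X.left.residueField z)) hb
  refine ⟨Spec.map (CommRingCat.ofHom σ.symm.toAlgHom.toRingHom) ≫
    X.left.fromSpecResidueField z, ?_⟩
  rw [Category.assoc, ← hc, ← Spec.map_comp, ← Spec.map_id]
  congr 1
  ext r
  exact σ.symm.toAlgHom.commutes r

theorem exists_frobenius_bound (p : ℕ) (hp : p.Prime) [ExpChar K p] :
    ∀ᵉ (N : ℕ) (_ : ∀ (A : CommRingCat.{u}) (i : G.left ≅ Spec A) (c : CommRingCat.of K ⟶ A)
      (e : A ⟶ CommRingCat.of K), i.inv ≫ G.hom = Spec.map c → η[G].left ≫ i.hom = Spec.map e →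
      ∀ x : A, (x - c.hom (e.hom x)) ^ N = 0) (X : Over (Spec (CommRingCat.of K)))
      (a : AlgGrp.Action G X) (_ : NonAbH1.IsPseudoTorsorSch a) (z : X.left),
      NonAbH1.HasSectionOver X (Spec.map (CommRingCat.ofHom (iterateFrobenius K p N))) := by
  intro N hN X a ha z
  obtain ⟨A, i, c, e, -, hc, he, -⟩ := exists_aug (G := G)
  obtain ⟨cz, hcz⟩ := Spec.map_surjective (X.left.fromSpecResidueField z ≫ X.hom)
  letI : Algebra K (X.left.residueField z) := cz.hom.toAlgebra
  let F := X.left.residueField z
  let R := (F ⊗[K] F)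
  haveI : ExpChar R p := expChar_of_injective_ringHom (algebraMap K R).injective p
  have key := comp_eq_of_kills hc he a ha (R := CommRingCat.of R)
    (CommRingCat.ofHom (iterateFrobenius R p N))
    (fun γ x => by
      have h := hN A i c e hc he x
      have hle : N ≤ p ^ N := (Nat.lt_pow_self hp.one_lt).le
      change (γ.hom (x - c.hom (e.hom x))) ^ p ^ N = 0
      rw [← map_pow, pow_eq_zero_of_le hle h, map_zero])
    (Spec.map (CommRingCat.ofHom (Algebra.TensorProduct.includeLeftRingHom (R := K) (A := F)
      (B := F))) ≫ X.left.fromSpecResidueField z)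
    (Spec.map (CommRingCat.ofHom ((Algebra.TensorProduct.includeRight (R := K) (A := F)
      (B := F)).toRingHom)) ≫ X.left.fromSpecResidueField z) (by
      rw [Category.assoc, Category.assoc, ← hcz, ← Spec.map_comp, ← Spec.map_comp]
      congr 1
      ext r
      exact (Algebra.TensorProduct.includeLeft (S := K) (R := K) (A := F) (B := F)).commutes r |>.trans
        ((Algebra.TensorProduct.includeRight (R := K) (A := F) (B := F)).commutes r).symm)
  rw [← Category.assoc, ← Category.assoc, cancel_mono, ← Spec.map_comp, ← Spec.map_comp] at key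
  have key' := Spec.map_injective key
  have hmem : ∀ r : F, ∃ k : K, algebraMap K F k = r ^ p ^ N := by
    intro r
    have h := congrArg (fun q => q.hom r) key'
    change ((r ⊗ₜ[K] (1 : F)) : R) ^ p ^ N = ((1 : F) ⊗ₜ[K] r : R) ^ p ^ N at h
    rw [Algebra.TensorProduct.tmul_pow, Algebra.TensorProduct.tmul_pow, one_pow] at h
    obtain ⟨ρ, hρ⟩ := (Algebra.linearMap K F).exists_leftInverse_of_injective
      (LinearMap.ker_eq_bot.mpr (algebraMap K F).injective)
    have hρ1 : ρ 1 = 1 := by
      have := LinearMap.congr_fun hρ 1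
      simpa using this
    have h2 := congrArg ((TensorProduct.rid K F).toLinearMap ∘ₗ LinearMap.lTensor F ρ) h
    simp [hρ1] at h2
    exact ⟨ρ (r ^ p ^ N), by rw [Algebra.algebraMap_eq_smul_one, ← h2]⟩
  choose k hk using hmem
  haveI : ExpChar F p := expChar_of_injective_ringHom (algebraMap K F).injective p
  have inj := (algebraMap K F).injective
  let κ : F →+* K :=
    { toFun := k
      map_one' := inj (by simp [hk])
      map_zero' := inj (by rw [hk, map_zero, zero_pow (pow_ne_zero N hp.ne_zero)])
      map_mul' := fun r s => inj (by simp [hk, mul_pow])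
      map_add' := fun r s => inj (by simp [hk, add_pow_expChar_pow]) }
  refine ⟨Spec.map (CommRingCat.ofHom κ) ≫ X.left.fromSpecResidueField z, ?_⟩
  rw [Category.assoc, ← hcz, ← Spec.map_comp]
  congr 1
  ext r
  apply inj
  change algebraMap K F (k (algebraMap K F r)) = algebraMap K F (iterateFrobenius K p N r)
  rw [hk, iterateFrobenius_def, map_pow]

omit [IsFinite G.hom] [ConnectedSpace G.left] [GrpObj G] in
/-- A scheme locally trivial for morphisms locally of finite type has a point in a finite
extension, which is separable if the trivialising morphisms are formally unramified. -/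
theorem exists_finite_point (P : MorphismProperty Scheme.{u})
    (hP : P ≤ @LocallyOfFiniteType)
    (h : NonAbH1.IsLocallyTrivialFor (Scheme.precoverage P) X) :
    ∃ (L : Type u) (_ : Field L) (_ : Algebra K L) (_ : Module.Finite K L),
      (P ≤ @AlgebraicGeometry.FormallyUnramified → Algebra.IsSeparable K L) ∧
      ∃ x : Spec (CommRingCat.of L) ⟶ X.left,
        x ≫ X.hom = Spec.map (CommRingCat.ofHom (algebraMap K L)) := by
  obtain ⟨R, hR, hsec⟩ := h
  obtain ⟨Y, f, hf, hY⟩ : ∃ (Y : Scheme.{u}) (f : Y ⟶ Spec (CommRingCat.of K)),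
      R f ∧ Nonempty Y := by
    obtain ⟨Y, f, hf, y, hy⟩ :=
      (Presieve.mem_comap_jointlySurjectivePrecoverage_iff _).mp hR.1 (default : Spec (CommRingCat.of K))
    exact ⟨Y, f, hf, ⟨y⟩⟩
  have hPf : P f := hR.2 hf
  haveI : LocallyOfFiniteType f := hP _ hPf
  haveI : JacobsonSpace Y := LocallyOfFiniteType.jacobsonSpace f
  obtain ⟨y, -, hyc⟩ := nonempty_inter_closedPoints
    (Set.univ_nonempty (α := Y)) isClosed_univ.isLocallyClosed
  haveI : IsClosedImmersion (Y.fromSpecResidueField y) :=
    isClosed_singleton_iff_isClosedImmersion.mp hyc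
  obtain ⟨c, hc⟩ := Spec.map_surjective (Y.fromSpecResidueField y ≫ f)
  letI : Algebra K (Y.residueField y) := c.hom.toAlgebra
  have hft : c.hom.FiniteType := by
    rw [← HasRingHomProperty.Spec_iff (P := @LocallyOfFiniteType), hc]
    infer_instance
  haveI : Algebra.FiniteType K (Y.residueField y) := hft
  haveI : Module.Finite K (Y.residueField y) := finite_of_finite_type_of_isJacobsonRing _ _
  obtain ⟨s, hs⟩ := hsec f hf
  refine ⟨Y.residueField y, inferInstance, inferInstance, inferInstance, fun hu => ?_,
    Y.fromSpecResidueField y ≫ s, ?_⟩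
  · haveI : AlgebraicGeometry.FormallyUnramified f := hu _ hPf
    have h2 : c.hom.FormallyUnramified := by
      rw [← HasRingHomProperty.Spec_iff (P := @AlgebraicGeometry.FormallyUnramified), hc]
      exact MorphismProperty.comp_mem _ _ _
        (inferInstanceAs (AlgebraicGeometry.FormallyUnramified (Y.fromSpecResidueField y))) ‹_›
    haveI : Algebra.FormallyUnramified K (Y.residueField y) := h2
    exact Algebra.FormallyUnramified.isSeparable K (Y.residueField y)
  · rw [Category.assoc, hs, ← hc]
    rfl


end Groth.Agent.ConnFinTorsor
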